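import Mathlib
import Cfsg.Prelude.Def_LieExceptional

/-!
# S4068: groups in which every non-identity element has prime order (EPO groups), basics
-/

set_option autoImplicit false

namespace Cfsg.Agent.Helper95.FourOrb

/-- Every non-identity element has prime order. -/
def EPO (G : Type*) [Group G] : Prop := ∀ g : G, g ≠ 1 → (orderOf g).Prime

variable {G : Type*} [Group G]

theorem EPO.subgroup (h : EPO G) (K : Subgroup G) : EPO K := by
  intro g hg
  rw [← Subgroup.orderOf_coe]
  exact h g (by simpa using hg)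

theorem EPO.quotient (h : EPO G) (N : Subgroup G) [N.Normal] : EPO (G ⧸ N) := by
  intro x hx
  obtain ⟨g, rfl⟩ := QuotientGroup.mk_surjective x
  have hg : g ≠ 1 := by
    rintro rfl
    exact hx rfl
  have hp := h g hg
  have hdvd : orderOf (QuotientGroup.mk' N g) ∣ orderOf g := orderOf_map_dvd (QuotientGroup.mk' N) g
  rcases (Nat.dvd_prime hp).mp hdvd with h1 | h1
  · exact absurd (orderOf_eq_one_iff.mp h1) hx
  · have h2 : orderOf (QuotientGroup.mk g : G ⧸ N) = orderOf g := h1
    rw [h2]; exact hp

theorem EPO.congr {H : Type*} [Group H] (h : EPO G) (e : G ≃* H) : EPO H := by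
  intro g hg
  have h1 := h (e.symm g) (by simpa using hg)
  rwa [MulEquiv.orderOf_eq] at h1

theorem EPO.orderOf_eq_of_commute (h : EPO G) {x y : G} (hxy : Commute x y) (hx : x ≠ 1)
    (hy : y ≠ 1) : orderOf x = orderOf y := by
  by_contra hne
  have hp := h x hx
  have hq := h y hy
  have hcop : Nat.Coprime (orderOf x) (orderOf y) := (Nat.coprime_primes hp hq).mpr hne
  have hord : orderOf (x * y) = orderOf x * orderOf y :=
    hxy.orderOf_mul_eq_mul_orderOf_of_coprime hcop
  have hxy1 : x * y ≠ 1 := by
    intro h1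
    apply hne
    have h2 : x = y⁻¹ := mul_eq_one_iff_eq_inv.mp h1
    rw [h2, orderOf_inv]
  have hpr := h (x * y) hxy1
  rw [hord] at hpr
  exact Nat.not_prime_mul hp.ne_one hq.ne_one hpr

theorem EPO.isCNGroup [Finite G] (h : EPO G) : Cfsg.IsCNGroup G := by
  intro g hg
  have hp := h g hg
  haveI : Fact (orderOf g).Prime := ⟨hp⟩
  have hpg : IsPGroup (orderOf g) (Subgroup.centralizer ({g} : Set G)) := by
    intro y
    by_cases hy : y = 1
    · exact ⟨0, by rw [hy]; simp⟩
    · refine ⟨1, ?_⟩
      have hyG : (y : G) ≠ 1 := by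
        intro h1
        apply hy
        exact Subtype.ext h1
      have hcomm : Commute g (y : G) := (Subgroup.mem_centralizer_iff.mp y.2) g rfl
      have heq := h.orderOf_eq_of_commute hcomm hg hyG
      rw [pow_one]
      apply Subtype.ext
      push_cast
      rw [heq]
      exact pow_orderOf_eq_one _
  exact hpg.isNilpotent

/-- The centraliser of an involution in an EPO group is an elementary abelian 2-group. -/
theorem EPO.centralizer_invol (h : EPO G) (t : G) (ht : orderOf t = 2) :
    IsMulCommutative (Subgroup.centralizer ({t} : Set G)) ∧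
      ∀ c ∈ Subgroup.centralizer ({t} : Set G), c ^ 2 = 1 := by
  have ht1 : t ≠ 1 := by
    rintro rfl
    simp at ht
  have hsq : ∀ c ∈ Subgroup.centralizer ({t} : Set G), c ^ 2 = 1 := by
    intro c hc
    by_cases hc1 : c = 1
    · rw [hc1, one_pow]
    · have hcomm : Commute t c := (Subgroup.mem_centralizer_iff.mp hc) t rfl
      have heq := h.orderOf_eq_of_commute hcomm ht1 hc1
      rw [← ht, heq]
      exact pow_orderOf_eq_one c
  refine ⟨⟨⟨fun a b => ?_⟩⟩, hsq⟩
  apply Subtype.ext
  push_cast
  have ha : (a : G)⁻¹ = a := inv_eq_of_mul_eq_one_left (by rw [← pow_two]; exact hsq a a.2)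
  have hb : (b : G)⁻¹ = b := inv_eq_of_mul_eq_one_left (by rw [← pow_two]; exact hsq b b.2)
  have hab : ((a : G) * b)⁻¹ = a * b :=
    inv_eq_of_mul_eq_one_left (by
      rw [← pow_two]
      exact hsq _ (Subgroup.mul_mem _ a.2 b.2))
  calc (a : G) * b = ((a : G) * b)⁻¹ := hab.symm
    _ = (b : G)⁻¹ * (a : G)⁻¹ := mul_inv_rev _ _
    _ = b * a := by rw [ha, hb]

end Cfsg.Agent.Helper95.FourOrb
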