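import Mathlib
import Cfsg.Agent.S0144
import Cfsg.Agent.Helper95.FourOrb.Basic

/-!
# S4068: a non-solvable group with four automorphism orbits is an EPO group
-/

set_option autoImplicit false

namespace Cfsg.Agent.Helper95.FourOrb

theorem exists_pow_mul_pow_of_card_primeFactors_le_two {n : ℕ} (hn : n ≠ 0)
    (h : n.primeFactors.card ≤ 2) :
    ∃ p q a b : ℕ, p.Prime ∧ q.Prime ∧ n = p ^ a * q ^ b := by
  have hprod := Nat.factorization_prod_pow_eq_self hn
  rw [Finsupp.prod, Nat.support_factorization] at hprod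
  have hc : n.primeFactors.card = 0 ∨ n.primeFactors.card = 1 ∨ n.primeFactors.card = 2 := by
    omega
  rcases hc with hc | hc | hc
  · rw [Finset.card_eq_zero] at hc
    rw [hc, Finset.prod_empty] at hprod
    exact ⟨2, 2, 0, 0, Nat.prime_two, Nat.prime_two, by rw [← hprod]; norm_num⟩
  · obtain ⟨p, hp⟩ := Finset.card_eq_one.mp hc
    have hpp : p.Prime := Nat.prime_of_mem_primeFactors (by rw [hp]; exact Finset.mem_singleton_self p)
    rw [hp, Finset.prod_singleton] at hprod
    exact ⟨p, p, n.factorization p, 0, hpp, hpp, by rw [pow_zero, mul_one]; exact hprod.symm⟩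
  · obtain ⟨p, q, hpq, hs⟩ := Finset.card_eq_two.mp hc
    have hpp : p.Prime := Nat.prime_of_mem_primeFactors (by rw [hs]; simp)
    have hqp : q.Prime := Nat.prime_of_mem_primeFactors (by rw [hs]; simp)
    rw [hs, Finset.prod_pair hpq] at hprod
    exact ⟨p, q, n.factorization p, n.factorization q, hpp, hqp, hprod.symm⟩

variable {G : Type*} [Group G] [Finite G]

theorem epo_of_four_orbits (hns : ¬ Group.IsSolvable G)
    (h4 : Nat.card (MulAction.orbitRel.Quotient (MulAut G) G) = 4) : EPO G := by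
  classical
  have hn0 : Nat.card G ≠ 0 := Nat.card_pos.ne'
  have h3 : 2 < (Nat.card G).primeFactors.card := by
    by_contra hle
    push Not at hle
    obtain ⟨p, q, a, b, hp, hq, hcard⟩ := exists_pow_mul_pow_of_card_primeFactors_le_two hn0 hle
    exact hns (Cfsg.Agent.S0144.result p q a b hp hq hcard)
  obtain ⟨p1, p2, p3, h1, h2, h3', h12, h13, h23⟩ := Finset.two_lt_card_iff.mp h3
  have hp1 := Nat.prime_of_mem_primeFactors h1
  have hp2 := Nat.prime_of_mem_primeFactors h2
  have hp3 := Nat.prime_of_mem_primeFactors h3'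
  haveI : Fact p1.Prime := ⟨hp1⟩
  haveI : Fact p2.Prime := ⟨hp2⟩
  haveI : Fact p3.Prime := ⟨hp3⟩
  obtain ⟨x1, hx1⟩ := exists_prime_orderOf_dvd_card' (G := G) p1 (Nat.dvd_of_mem_primeFactors h1)
  obtain ⟨x2, hx2⟩ := exists_prime_orderOf_dvd_card' (G := G) p2 (Nat.dvd_of_mem_primeFactors h2)
  obtain ⟨x3, hx3⟩ := exists_prime_orderOf_dvd_card' (G := G) p3 (Nat.dvd_of_mem_primeFactors h3')
  -- the order function on the orbit space
  let f : MulAction.orbitRel.Quotient (MulAut G) G → ℕ :=
    Quotient.lift (fun g : G => orderOf g) (by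
      intro a b hab
      obtain ⟨α, hα⟩ := (MulAction.orbitRel_apply.mp hab)
      have hα' : α b = a := hα
      show orderOf a = orderOf b
      rw [← hα', MulEquiv.orderOf_eq])
  have hf : ∀ g : G, f (Quotient.mk'' g) = orderOf g := fun g => rfl
  haveI : Finite (MulAction.orbitRel.Quotient (MulAut G) G) :=
    Nat.finite_of_card_ne_zero (by rw [h4]; norm_num)
  haveI := Fintype.ofFinite (MulAction.orbitRel.Quotient (MulAut G) G)
  let q0 : MulAction.orbitRel.Quotient (MulAut G) G := Quotient.mk'' (1 : G)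
  let q1 : MulAction.orbitRel.Quotient (MulAut G) G := Quotient.mk'' x1
  let q2 : MulAction.orbitRel.Quotient (MulAut G) G := Quotient.mk'' x2
  let q3 : MulAction.orbitRel.Quotient (MulAut G) G := Quotient.mk'' x3
  have hf0 : f q0 = 1 := by rw [hf, orderOf_one]
  have hf1 : f q1 = p1 := by rw [hf, hx1]
  have hf2 : f q2 = p2 := by rw [hf, hx2]
  have hf3 : f q3 = p3 := by rw [hf, hx3]
  have hne : ∀ {a b : MulAction.orbitRel.Quotient (MulAut G) G}, f a ≠ f b → a ≠ b :=
    fun h e => h (by rw [e])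
  have h01 : q0 ≠ q1 := hne (by rw [hf0, hf1]; exact hp1.one_lt.ne)
  have h02 : q0 ≠ q2 := hne (by rw [hf0, hf2]; exact hp2.one_lt.ne)
  have h03 : q0 ≠ q3 := hne (by rw [hf0, hf3]; exact hp3.one_lt.ne)
  have h12' : q1 ≠ q2 := hne (by rw [hf1, hf2]; exact h12)
  have h13' : q1 ≠ q3 := hne (by rw [hf1, hf3]; exact h13)
  have h23' : q2 ≠ q3 := hne (by rw [hf2, hf3]; exact h23)
  let s : Finset (MulAction.orbitRel.Quotient (MulAut G) G) := {q0, q1, q2, q3}
  have hs : s.card = 4 := by
    simp only [s]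
    rw [Finset.card_insert_of_notMem, Finset.card_insert_of_notMem, Finset.card_insert_of_notMem,
      Finset.card_singleton]
    · simp [h23']
    · simp [h12', h13']
    · simp [h01, h02, h03]
  have huniv : s = Finset.univ := by
    apply Finset.eq_univ_of_card
    rw [hs, ← Nat.card_eq_fintype_card, h4]
  intro g hg
  have hmem : (Quotient.mk'' g : MulAction.orbitRel.Quotient (MulAut G) G) ∈ s := by
    rw [huniv]; exact Finset.mem_univ _
  have hord : orderOf g ≠ 1 := fun h => hg (orderOf_eq_one_iff.mp h)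
  simp only [s, Finset.mem_insert, Finset.mem_singleton] at hmem
  rcases hmem with h | h | h | h
  · exfalso; apply hord; rw [← hf g, h, hf0]
  · rw [← hf g, h, hf1]; exact hp1
  · rw [← hf g, h, hf2]; exact hp2
  · rw [← hf g, h, hf3]; exact hp3

end Cfsg.Agent.Helper95.FourOrb
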