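import Mathlib
import Cfsg.Agent.S0144
import Cfsg.Agent.S0183
import Cfsg.Agent.S0219
import Cfsg.Agent.S1230
import Cfsg.Agent.S0252
import Cfsg.Agent.Helper41.PSL2Orders
import Cfsg.Agent.Helper5.PSL2
import Cfsg.Agent.Helper95.FourOrb.Basic
import Cfsg.Agent.Helper95.FourOrb.Orbits

/-!
# S4068: a non-solvable group with exactly four automorphism orbits is `A₅`

Route: such a group is an EPO group (every non-identity element has prime order).  By the odd order
CN theorem (S0183) it has even order and its Sylow 2-subgroup is neither cyclic (S0219) nor normal;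
involution centralisers are elementary abelian, so by S1230 it is `PSL₂(2^a)`; the tori give elements
of orders `2^a - 1` and `2^a + 1`, which must be prime, so `a = 2`; finally `PSL₂(4) ≅ A₅` (S0252).
-/

set_option autoImplicit false

namespace Cfsg.Agent.Helper95.FourOrb

variable {G : Type*} [Group G] [Finite G]

theorem even_card_of_epo (h : EPO G) (hns : ¬ Group.IsSolvable G) : Even (Nat.card G) := by
  by_contra hodd
  rw [Nat.not_even_iff_odd] at hodd
  exact hns (Cfsg.Agent.S0183.result hodd h.isCNGroup)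

theorem isSolvable_of_normal_of_quotient (K : Subgroup G) [K.Normal] (h1 : Group.IsSolvable K)
    (h2 : Group.IsSolvable (G ⧸ K)) : Group.IsSolvable G := by
  refine Group.isSolvable_of_ker_le_range K.subtype (QuotientGroup.mk' K) ?_
  rw [QuotientGroup.ker_mk', Subgroup.range_subtype]

theorem sylow_two_not_normal (h : EPO G) (hns : ¬ Group.IsSolvable G) (T : Sylow 2 G) :
    ¬ (T : Subgroup G).Normal := by
  intro hn
  have := hn
  haveI : Fact (Nat.Prime 2) := ⟨Nat.prime_two⟩
  have hodd : Odd (Nat.card (G ⧸ (T : Subgroup G))) := by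
    rw [← Subgroup.index_eq_card, ← Nat.not_even_iff_odd, even_iff_two_dvd]
    exact T.not_dvd_index
  have hq : Group.IsSolvable (G ⧸ (T : Subgroup G)) :=
    Cfsg.Agent.S0183.result hodd (h.quotient _).isCNGroup
  have hnil : Group.IsNilpotent (T : Subgroup G) := T.isPGroup'.isNilpotent
  have hT : Group.IsSolvable (T : Subgroup G) := inferInstance
  exact hns (isSolvable_of_normal_of_quotient (T : Subgroup G) hT hq)

theorem sylow_two_not_cyclic (h : EPO G) (hns : ¬ Group.IsSolvable G) (T : Sylow 2 G) :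
    ¬ IsCyclic (T : Subgroup G) := by
  intro hcyc
  haveI : Fact (Nat.Prime 2) := ⟨Nat.prime_two⟩
  have heven : Even (Nat.card G) := even_card_of_epo h hns
  obtain ⟨K, hK⟩ := Cfsg.Agent.S0219.result heven T hcyc
  -- `|T| = 2`
  have hmul : Nat.card (T : Subgroup G) * (T : Subgroup G).index = Nat.card G :=
    Subgroup.card_mul_index _
  have hidx : ¬ 2 ∣ (T : Subgroup G).index := T.not_dvd_index
  have h2T : 2 ∣ Nat.card (T : Subgroup G) := by
    have h2G : 2 ∣ Nat.card G := even_iff_two_dvd.mp heven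
    rw [← hmul] at h2G
    rcases (Nat.Prime.dvd_mul Nat.prime_two).mp h2G with h0 | h0
    · exact h0
    · exact absurd h0 hidx
  obtain ⟨g, hg⟩ := hcyc.exists_generator
  have hordg : orderOf g = Nat.card (T : Subgroup G) := orderOf_eq_card_of_forall_mem_zpowers hg
  have hg1 : g ≠ 1 := by
    rintro rfl
    rw [orderOf_one] at hordg
    rw [← hordg] at h2T
    omega
  have hprime : (Nat.card (T : Subgroup G)).Prime := by
    rw [← hordg]
    exact (h.subgroup _) g hg1
  have hT2 : Nat.card (T : Subgroup G) = 2 :=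
    ((Nat.prime_dvd_prime_iff_eq Nat.prime_two hprime).mp h2T).symm
  -- `K` has odd order
  have hKmul : Nat.card K * K.index = Nat.card G := Subgroup.card_mul_index K
  have hKcard : Nat.card K = (T : Subgroup G).index := by
    rw [hK, ← hmul, hT2] at hKmul
    omega
  have hKodd : Odd (Nat.card K) := by
    rw [hKcard, ← Nat.not_even_iff_odd, even_iff_two_dvd]
    exact hidx
  haveI : K.Normal := Subgroup.normal_of_index_eq_two hK
  have hKs : Group.IsSolvable K := Cfsg.Agent.S0183.result hKodd (h.subgroup K).isCNGroup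
  have hQ : Group.IsSolvable (G ⧸ K) := by
    have hc : Nat.card (G ⧸ K) = 2 ^ 1 * 2 ^ 0 := by
      rw [← Subgroup.index_eq_card, hK]; norm_num
    exact Cfsg.Agent.S0144.result 2 2 1 0 Nat.prime_two Nat.prime_two hc
  exact hns (isSolvable_of_normal_of_quotient K hKs hQ)

theorem main (hns : ¬ Group.IsSolvable G)
    (h4 : Nat.card (MulAction.orbitRel.Quotient (MulAut G) G) = 4) :
    Nonempty (G ≃* alternatingGroup (Fin 5)) := by
  classical
  have hE : EPO G := epo_of_four_orbits hns h4
  haveI : Fact (Nat.Prime 2) := ⟨Nat.prime_two⟩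
  obtain ⟨T⟩ : Nonempty (Sylow 2 G) := inferInstance
  have hnc := sylow_two_not_cyclic hE hns T
  have hnn := sylow_two_not_normal hE hns T
  obtain ⟨F, instF, instFT, hcard, ⟨e⟩⟩ :=
    Cfsg.Agent.S1230.result T hnc hnn (fun t ht => hE.centralizer_invol t ht)
  -- `|T| = 2 ^ a` with `a ≥ 2`
  obtain ⟨a, ha⟩ := IsPGroup.iff_card.mp T.isPGroup'
  have ha2 : 2 ≤ a := by
    by_contra hlt
    push Not at hlt
    apply hnc
    have ha01 : a = 0 ∨ a = 1 := by omega
    rcases ha01 with rfl | rfl
    · rw [pow_zero] at ha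
      haveI : Subsingleton (T : Subgroup G) := (Nat.card_eq_one_iff_unique.mp ha).1
      exact isCyclic_of_subsingleton
    · rw [pow_one] at ha
      haveI : Fact (Nat.Prime 2) := ⟨Nat.prime_two⟩
      exact isCyclic_of_prime_card ha
  have hq : Fintype.card F = 2 ^ a := by rw [hcard, ha]
  have hq4 : 4 ≤ 2 ^ a := by
    calc 4 = 2 ^ 2 := by norm_num
      _ ≤ 2 ^ a := Nat.pow_le_pow_right (by norm_num) ha2
  have h2F : (2 : F) = 0 := by
    apply Cfsg.Agent.Helper5.two_eq_zero_of_even_card
    rw [hq]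
    exact (Nat.even_pow.mpr ⟨even_two, by omega⟩)
  haveI : CharP F 2 := CharTwo.of_one_ne_zero_of_two_eq_zero one_ne_zero h2F
  have hgcd : Nat.gcd 2 (Fintype.card F - 1) = 1 := by
    rcases Cfsg.Agent.Helper41.card_field_gcd_two (F := F) 2 with ⟨-, h⟩ | ⟨h, -⟩
    · exact h
    · exact absurd rfl h
  obtain ⟨g1, hg1⟩ := Cfsg.Agent.Helper41.psl2_exists_orderOf_eq_split (F := F)
  obtain ⟨g2, hg2⟩ := Cfsg.Agent.Helper41.psl2_exists_orderOf_eq_nonsplit (F := F) 2
  rw [hgcd, Nat.div_one, hq] at hg1 hg2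
  have hE' : EPO (Matrix.ProjectiveSpecialLinearGroup (Fin 2) F) := hE.congr e
  have hpr1 : (2 ^ a - 1).Prime := by
    have hne : g1 ≠ 1 := by
      rintro rfl
      rw [orderOf_one] at hg1
      omega
    have h1 := hE' g1 hne
    rwa [hg1] at h1
  have hpr2 : (2 ^ a + 1).Prime := by
    have hne : g2 ≠ 1 := by
      rintro rfl
      rw [orderOf_one] at hg2
      omega
    have h1 := hE' g2 hne
    rwa [hg2] at h1
  have ha_prime : a.Prime := (Nat.prime_of_pow_sub_one_prime (by omega) hpr1).2
  obtain ⟨m, hm⟩ := Nat.pow_of_pow_add_prime (by norm_num) (by omega) hpr2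
  have ha_eq : a = 2 := by
    have hm0 : m ≠ 0 := by
      rintro rfl
      rw [pow_zero] at hm
      omega
    rw [hm] at ha_prime
    rcases (Nat.dvd_prime ha_prime).mp (dvd_pow_self 2 hm0) with h0 | h0
    · omega
    · rw [hm]; exact h0.symm
  have hF4 : Fintype.card F = 4 := by rw [hq, ha_eq]; norm_num
  obtain ⟨e2⟩ := Cfsg.Agent.S0252.result hF4
  exact ⟨e.trans e2⟩

end Cfsg.Agent.Helper95.FourOrb
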